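/-
Sylow 2-subgroups of type `A₁₂`: the model `W = E ⋊ D` (even subsets of seven points, extended by a dihedral group).
-/
import Cfsg.Agent.W2.Fin
import Cfsg.Agent.Ya.A
set_option autoImplicit false
set_option maxRecDepth 100000
set_option synthInstance.maxSize 2000

namespace CF.O7
open Subgroup Equiv CF.BG CF.Sig CF.GW CF.Ab2
open CF.W2 (SM Cj Dz)
open CF.Ya (allN anyN cnt lk bt allN_iff anyN_iff lk_lt)

/-- even subsets of `{0,…,6}`; bit `i - 1` of `v` records the point `i ≥ 1` -/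
@[ext] structure E where
  /-- the code -/
  v : ℕ
  lt : v < 64
/-- the dihedral group; `a + 2 b + 4 c` is `π ^ a π' ^ b π₂ ^ c` -/
@[ext] structure D where
  /-- the code -/
  v : ℕ
  lt : v < 8

instance instDecE : DecidableEq E := fun a b => decidable_of_iff (a.v = b.v) E.ext_iff.symm
instance instDecD : DecidableEq D := fun a b => decidable_of_iff (a.v = b.v) D.ext_iff.symm
noncomputable instance instAllE (p : E → Prop) [DecidablePred p] : Decidable (∀ a, p a) :=
  decidable_of_iff (allN (fun k => if h : k < 64 then decide (p ⟨k, h⟩) else true) 64 = true) (by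
    rw [allN_iff]
    exact ⟨fun h a => by simpa [a.lt] using h a.v a.lt, fun h k hk => by simpa [hk] using h _⟩)
noncomputable instance instAllD (p : D → Prop) [DecidablePred p] : Decidable (∀ a, p a) :=
  decidable_of_iff (allN (fun k => if h : k < 8 then decide (p ⟨k, h⟩) else true) 8 = true) (by
    rw [allN_iff]
    exact ⟨fun h a => by simpa [a.lt] using h a.v a.lt, fun h k hk => by simpa [hk] using h _⟩)
noncomputable instance instExE (p : E → Prop) [DecidablePred p] : Decidable (∃ a, p a) :=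
  decidable_of_iff (¬ ∀ a, ¬ p a) (by simp)
noncomputable instance instExD (p : D → Prop) [DecidablePred p] : Decidable (∃ a, p a) :=
  decidable_of_iff (¬ ∀ a, ¬ p a) (by simp)
/-- the identification with `Fin 64` -/
def E.eqv : E ≃ Fin 64 := ⟨fun a => ⟨a.v, a.lt⟩, fun a => ⟨a.1, a.2⟩, fun _ => rfl, fun _ => rfl⟩
/-- the identification with `Fin 8` -/
def D.eqv : D ≃ Fin 8 := ⟨fun a => ⟨a.v, a.lt⟩, fun a => ⟨a.1, a.2⟩, fun _ => rfl, fun _ => rfl⟩
instance instFinE : Fintype E := .ofEquiv _ E.eqv.symm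
instance instFinD : Fintype D := .ofEquiv _ D.eqv.symm
theorem card_E : Nat.card E = 64 := (Nat.card_congr E.eqv).trans (by simp)
theorem card_D : Nat.card D = 8 := (Nat.card_congr D.eqv).trans (by simp)

instance instGrpE : CommGroup E where
  mul a b := ⟨Nat.xor a.v b.v, Nat.xor_lt_two_pow (n := 6) a.lt b.lt⟩
  one := ⟨0, by decide⟩
  inv a := a
  mul_assoc a b c := E.ext (Nat.xor_assoc _ _ _)
  one_mul a := E.ext (Nat.zero_xor _)
  mul_one a := E.ext (Nat.xor_zero _)
  inv_mul_cancel a := E.ext (Nat.xor_self _)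
  mul_comm a b := E.ext (Nat.xor_comm _ _)
@[simp] theorem E.inv_eq (a : E) : a⁻¹ = a := rfl
@[simp] theorem E.sq (a : E) : a * a = 1 := inv_mul_cancel a

instance instMulD : Mul D := ⟨fun a b =>
  ⟨lk 0x213b3705a97e681fa54c8dec977053b3e21ade54c1fac688 3 (Nat.add (Nat.mul 8 a.v) b.v), lk_lt _ 3 _⟩⟩
instance instOneD : One D := ⟨⟨0, by decide⟩⟩
instance instInvD : Inv D := ⟨fun a => ⟨lk 0xdec688 3 a.v, lk_lt _ 3 _⟩⟩
instance instGrpD : Group D := Group.ofLeftAxioms (by decide +kernel) (by decide +kernel) (by decide +kernel)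

/-- a table -/
def AT : ℕ := 0xffbdf3f79d71fbadb2f38d307db5d375955179a592718510beb9e3b69961baa9a2b289203cb1c334914138a182308100ff7ef3fb6eb2f75e71f34e307d76d3796692755651714610be7ae3ba6aa2b65a61b24a203c72c3386282345241304200ffef7cdf6d74efae78cf2c707de75c5d65546da6584d2450beeb6c9e6964aeaa688e28603ce34c1c61442ca2480c2040ffdfbcef9eb8df5db4cf1cb07dd79c6d96985d55944d1490bedbacae9aa89e59a48e18a03cd38c2c92881c51840c1080ff7ef3f75e71fb6eb2f34e30be7ae3b65a61ba6aa2b24a207d76d37556517966927146103c72c3345241386282304200ffbdf3fbadb2f79d71f38d30beb9e3baa9a2b69961b289207db5d379a5927595517185103cb1c338a182349141308100ffdfbcdf5db4ef9eb8cf1cb0bedbac9e59a4ae9aa88e18a07dd79c5d55946d96984d14903cd38c1c51842c92880c1080ffef7cefae78df6d74cf2c70beeb6caeaa689e69648e28607de75c6da6585d65544d24503ce34c2ca2481c61440c2040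
/-- a table -/
def RD : ℕ := 0xffef7cefae78df6d74cf2c70beeb6caeaa689e69648e28607de75c6da6585d65544d24503ce34c2ca2481c61440c2040ffef7cefae78df6d74cf2c70beeb6caeaa689e69648e28607de75c6da6585d65544d24503ce34c2ca2481c61440c20403ce34c3ce34c3ce34c3ce34c3ce34c3ce34c3ce34c3ce34c3ce34c3ce34c3ce34c3ce34c3ce34c3ce34c3ce34c3ce34c3cf3cf2cb2cb1c71c70c30c33cf3cf2cb2cb1c71c70c30c33cf3cf2cb2cb1c71c70c30c33cf3cf2cb2cb1c71c70c30c3db6db6db6db6db6db6db6db69a69a69a69a69a69a69a69a6596596596596596596596596186186186186186186186186d75d75d75d75d75d75d75d75965965965965965965965965555555555555555555555555145145145145145145145145cf3cf3cf3cf3cf3cf3cf3cf38e38e38e38e38e38e38e38e34d34d34d34d34d34d34d34d30c30c30c30c30c30c30c30c3ffef7cefae78df6d74cf2c70beeb6caeaa689e69648e28607de75c6da6585d65544d24503ce34c2ca2481c61440c2040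
/-- a table -/
def CT : ℕ := 0x6da6926924916924914914496924914914494914494492486da7247245217248a19118497249118a18495218498492486da7247245217249118a18497248a19118495218498492486da6da6da4916da6da6da4916da6da6da491491491491248

/-- the action of `D` on `E` -/
def ac (d : D) (v : E) : E := ⟨lk AT 6 (Nat.add (Nat.mul 64 d.v) v.v), lk_lt _ 6 _⟩
theorem ac_mul : ∀ d u v, ac d (u * v) = ac d u * ac d v := by decide +kernel
theorem mul_ac : ∀ c d v, ac (c * d) v = ac c (ac d v) := by decide +kernel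
theorem one_ac : ∀ v, ac 1 v = v := by decide +kernel
theorem ac_one : ∀ d, ac d 1 = 1 := by decide +kernel

/-- the model -/
@[ext] structure W where
  /-- the subset -/
  e : E
  /-- the permutation -/
  d : D
instance instDecW : DecidableEq W := fun a b =>
  decidable_of_iff (a.d = b.d ∧ a.e = b.e) ⟨fun h => W.ext h.2 h.1, fun h => h ▸ ⟨rfl, rfl⟩⟩
noncomputable instance instAllW (p : W → Prop) [DecidablePred p] : Decidable (∀ a, p a) :=
  decidable_of_iff (∀ d e, p ⟨e, d⟩) ⟨fun h _ => h _ _, fun h _ _ => h _⟩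
noncomputable instance instExW (p : W → Prop) [DecidablePred p] : Decidable (∃ a, p a) :=
  decidable_of_iff (¬ ∀ a, ¬ p a) (by simp)
instance instMulW : Mul W := ⟨fun a b => ⟨a.e * ac a.d b.e, a.d * b.d⟩⟩
instance instOneW : One W := ⟨⟨1, 1⟩⟩
instance instInvW : Inv W := ⟨fun a => ⟨ac a.d⁻¹ a.e, a.d⁻¹⟩⟩
theorem W.mul_def (a b : W) : a * b = ⟨a.e * ac a.d b.e, a.d * b.d⟩ := rfl
instance instGrpW : Group W := Group.ofLeftAxioms
  (fun a b c => by simp only [W.mul_def, ac_mul, mul_ac, mul_assoc]) (by decide +kernel) (by decide +kernel)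
/-- the identification with a product -/
def W.eqv : W ≃ E × D := ⟨fun a => (a.e, a.d), fun a => ⟨a.1, a.2⟩, fun _ => rfl, fun _ => rfl⟩
instance instFinW : Fintype W := .ofEquiv _ W.eqv.symm
theorem card_W : Nat.card W = 512 := by rw [Nat.card_congr W.eqv, Nat.card_prod, card_E, card_D]

/-- explicit subsets -/
scoped notation "𝐞" n:max => (E.mk n (by decide))
/-- explicit elements of the model -/
scoped notation "𝐰" n:max d:max => (W.mk (E.mk n (by decide)) (D.mk d (by decide)))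

/-- the inclusion of `E` -/
def ie : E →* W := MonoidHom.mk' (fun v => ⟨v, 1⟩) fun u v => by simp only [W.mul_def, one_ac, mul_one]
/-- the inclusion of `D` -/
def id' : D →* W := MonoidHom.mk' (fun d => ⟨1, d⟩) fun u v => by simp only [W.mul_def, ac_one, mul_one]
/-- the projection to `D` -/
def pr : W →* D := MonoidHom.mk' W.d fun _ _ => rfl
theorem ie_inj : Function.Injective ie := fun _ _ e => congrArg W.e e
theorem cj_ie (w : W) (v : E) : w * ie v * w⁻¹ = ie (ac w.d v) := by revert w v; decide +kernel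
theorem eq_ie {w : W} (h : w.d = 1) : w = ie w.e := W.ext rfl h
theorem cen_ie : ∀ w : W, (∀ v, ac w.d v = v) → w.d = 1 := by decide +kernel

/-- membership of a point -/
def bit (v : E) (i : Fin 7) : Bool := bt (Nat.add (Nat.mul 2 v.v) (lk 0x6996966996696996 1 v.v)) i.1
theorem bit_mul : ∀ u v i, bit (u * v) i = xor (bit u i) (bit v i) := by decide +kernel
theorem bit_one : ∀ i, bit 1 i = false := by decide +kernel
theorem ext_bit : ∀ u v, (∀ i, bit u i = bit v i) → u = v := by decide +kernel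
/-- the number of points -/
def wt (v : E) : ℕ := lk 0xdb4d24d24922d24922922892d24922922892922892892490 3 v.v
theorem wt_eq : ∀ v, wt v = (Finset.univ.filter fun i => bit v i = true).card := by decide +kernel
/-- the complement of the point `i` -/
def t (i : Fin 7) : E := ⟨lk 0x1fbf7efdfbf 6 i.1, lk_lt _ 6 _⟩
theorem bit_t : ∀ i k, bit (t i) k = decide (k ≠ i) := by decide +kernel
theorem t_inj : Function.Injective t := by unfold Function.Injective; decide +kernel
theorem wt_six : ∀ v, wt v = 6 ↔ ∃ i, v = t i := by decide +kernel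
theorem wt_two : ∀ v, wt v = 2 ↔ ∃ i j, i ≠ j ∧ v = t i * t j := by decide +kernel
theorem E.ind {P : E → Prop} (h1 : P 1) (h : ∀ i v, P v → P (t i * v)) (v : E) : P v := by
  have : ∀ n v, wt v ≤ n → P v := fun n => by
    induction n with
    | zero => exact fun v k => (by decide +kernel : ∀ v, wt v ≤ 0 → v = 1) v k ▸ h1
    | succ n ih =>
      intro v k
      rcases (by decide +kernel : ∀ v, v = 1 ∨ ∃ i j, wt (t j * (t i * v)) < wt v) v with rfl | ⟨i, j, e⟩
      · exact h1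
      · have := h i _ (h j _ (ih (t j * (t i * v)) (by omega)))
        rwa [← mul_assoc (t j), E.sq, one_mul, ← mul_assoc, E.sq, one_mul] at this
  exact this _ v le_rfl
/-- the signs -/
def sE : E →* (Fin 7 → ℤˣ) := MonoidHom.mk' (fun v i => cond (bit v i) (-1) 1) fun u v => funext fun i => by
  rw [Pi.mul_apply, bit_mul]; cases bit u i <;> cases bit v i <;> rfl
theorem sE_apply (v : E) (i : Fin 7) : sE v i = cond (bit v i) (-1) 1 := rfl
theorem sE_prod : ∀ v, ∏ i, sE v i = 1 := by decide +kernel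
theorem sE_surj : ∀ s : Fin 7 → ℤˣ, ∏ i, s i = 1 → ∃ v, sE v = s := by decide +kernel
/-- the action on the points -/
def pt (d : D) (i : Fin 7) : Fin 7 :=
  ⟨Nat.mod (lk 0xf71518f722e0f73888f74650fa94e0faa318fab850fac688 3 (Nat.add (Nat.mul 8 d.v) i.1)) 7,
    Nat.mod_lt _ (by decide)⟩
/-- the permutation representation -/
def pm : D →* Perm (Fin 7) := MonoidHom.mk' (fun d => ⟨pt d, pt d⁻¹, by revert d; unfold Function.LeftInverse; decide +kernel,
  by revert d; unfold Function.RightInverse Function.LeftInverse; decide +kernel⟩) fun c d => Equiv.ext fun i =>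
    (by decide +kernel : ∀ c d i, pt (c * d) i = pt c (pt d i)) c d i
theorem pm_apply (d : D) (i : Fin 7) : pm d i = pt d i := rfl
theorem ac_t : ∀ d i, ac d (t i) = t (pt d i) := by decide +kernel
theorem pm_sign : ∀ d, Perm.sign (pm d) = 1 := by decide +kernel
theorem pm_inj : Function.Injective pm := fun c d e =>
  (by decide +kernel : ∀ c d, (∀ i, pt c i = pt d i) → c = d) c d fun i => congrArg (· i) e
/-- the character with kernel `T = A₀ D` -/
def χ0 : W →* ℤˣ := MonoidHom.mk' (fun w => sE w.e 0) fun a b => by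
  rw [W.mul_def, map_mul, Pi.mul_apply, (by decide +kernel : ∀ d v, sE (ac d v) 0 = sE v 0)]
theorem χ0_apply (w : W) : χ0 w = cond (bit w.e 0) (-1) 1 := rfl
/-- reduction of an involution to a subset -/
def rd (w : W) : E := ⟨lk RD 6 (Nat.add (Nat.mul 64 w.d.v) w.e.v), lk_lt _ 6 _⟩
theorem rd_ie : ∀ v, rd (ie v) = v := by decide +kernel
/-- the four fusion patterns (`0`: `A₁₂`; `1, 2`: `Sp₆(2)`; `3`: `Ω₇(q)`): the value is `1` on the class of
`a = {5,6} = 𝐞 48`, `2` on the class of `y = {1,2,3,4} = 𝐞 15`, `3` on the class of `t 0 = 𝐞 63` -/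
def cf (k : ℕ) (v : E) : ℕ := lk CT 3 (Nat.add (Nat.mul 64 k) v.v)
theorem cz : ∀ w : W, w * ie (t 0) = ie (t 0) * w := by decide +kernel
/-- subgroups of `E` -/
def subE (p : E → Bool) (h : p 1 ∧ ∀ x, p x → ∀ y, p y → p (x * y)) : Subgroup E where
  carrier := {x | p x}
  one_mem' := h.1
  mul_mem' := fun a b => h.2 _ a _ b
  inv_mem' := fun a => a
instance instDecSubE (p : E → Bool) (h) (v : E) : Decidable (v ∈ subE p h) := inferInstanceAs (Decidable (_ = true))
/-- subgroups of `W` -/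
def subW (p : W → Bool) (h : p 1 ∧ ∀ x, p x → ∀ y, p y → p (x * y⁻¹)) : Subgroup W :=
  .ofDiv {x | p x} ⟨1, h.1⟩ fun a ha b hb => h.2 a ha b hb
instance instDecSubW (p : W → Bool) (h) (v : W) : Decidable (v ∈ subW p h) := inferInstanceAs (Decidable (_ = true))

universe u
variable {G : Type u} [Group G]

/-- the embedding of `E` -/
abbrev ε (ι : W →* G) : E →* G := ι.comp ie
/-- `n` permutes the involutions `t i` as `σ` does -/
def Act (ι : W →* G) (n : G) (σ : Perm (Fin 7)) : Prop := ∀ i, Cj (ε ι) n (t i) (t (σ i))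
/-- the fusion not controlled by `N(A)`: `g` centralizes `Z₁ = ⟨{1234}, {05}, {06}⟩` and sends `{12}`, `{13}` into the
cosets of `π = (12)(34)`, `π' = (13)(24)` -/
structure Gg (ι : W →* G) (g : G) : Prop where
  z : ∀ v : E, v.v % 16 = 0 ∨ v.v % 16 = 15 → Cj (ε ι) g v v
  p : ∃ u, Cj ι g (ie (𝐞 3)) ⟨u, ⟨1, by decide⟩⟩
  p' : ∃ u, Cj ι g (ie (𝐞 5)) ⟨u, ⟨2, by decide⟩⟩

variable [Finite G]
/-- the fusion of involutions -/
structure Fu (k : ℕ) (ι : W →* G) : Prop extends SM ι where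
  red : ∀ w, w * w = 1 → Dz ι w (ie (rd w))
  inv : ∀ u v, Dz (ε ι) u v → cf k u = cf k v
  c1 : ∀ v, cf k v = 1 → Dz (ε ι) (𝐞 48) v
  c2 : ∀ v, cf k v = 2 → Dz (ε ι) (𝐞 15) v
  c3 : ∀ v, cf k v = 3 → Dz (ε ι) (t 0) v
  g : ∃ g, Gg ι g

/-- the data inherited by `C(t 0)/O(C(t 0))` -/
structure Hd (k : ℕ) (ι : W →* G) : Prop extends SM ι where
  o : 𝒪 (⊤ : Subgroup G) = ⊥
  c : ∀ x, Cj (ε ι) x (t 0) (t 0)
  inv : ∀ u v, u * u = 1 → Dz ι u v → cf k (rd u) = cf k (rd v)
  g : ∃ g, Gg ι g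
  p2 : ∃ v, bit v 0 = false ∧ Dz ι (𝐰 0 4) (ie v)
  tr : ∀ j, j ≠ 0 → ∃ n σ, Act ι n σ ∧ σ 5 = j

/-- no two-element block, except where `B'` separates it -/
abbrev OkA (i : Fin 7) (B B' : Subgroup E) : Prop := ∀ k l, k ≠ i → l ≠ i → k ≠ l → (∃ b ∈ B', bit b k ≠ bit b l) ∨
  ∃ m, m ≠ i ∧ m ≠ k ∧ m ≠ l ∧ ∀ b ∈ B, bit b k = bit b m ∧ bit b l = bit b m
/-- a block with four elements -/
abbrev OkB (i : Fin 7) (B : Subgroup E) : Prop := ∃ k l, k ≠ i ∧ l ≠ i ∧ k ≠ l ∧ ∀ b ∈ B, ∀ m m',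
  m ≠ i → m ≠ k → m ≠ l → m' ≠ i → m' ≠ k → m' ≠ l → bit b m = bit b m'

/-- the local properties of `C(t 0)/O(C(t 0))` used for the signalizer functor -/
structure Hx (ι : W →* G) : Prop where
  xa : ∀ B B' : Subgroup E, B ≤ B' → OkA 0 B B' → 𝒪 (𝐂 (B.map (ε ι))) ⊓ 𝐂 (B'.map (ε ι)) ≤ 𝐂 (ε ι).range
  xb : ∀ B : Subgroup E, OkB 0 B → 𝒪 (𝐂 (B.map (ε ι))) ⊓ 𝐂 (ε ι).range = ⊥
  gen : ∀ M : Subgroup G, 𝐍 (ε ι).range ≤ M → 𝐂₁ (ε ι (t 5)) ⊓ 𝐂₁ (ε ι (t 6)) ≤ M → M = ⊤

end CF.O7
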