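/-
Sylow 2-subgroups of type `A₁₂`: computations for the fusion in `A`.
-/
import Cfsg.Agent.O7.B
set_option autoImplicit false
set_option maxRecDepth 100000
set_option synthInstance.maxSize 100000
set_option synthInstance.maxHeartbeats 400000

namespace CF.O7.Fs
open CF.Ya (allN anyN cnt lk bt allN_iff anyN_iff lk_lt bt_eq)

/-- the `S`-classes in `A` -/
def cl (x : ℕ) : ℕ := lk 0x62d725a9495a9499253141ce4398a3394c320c6241ce4394c3398a320c628042e0bde00bde07000d 5 x
/-- their representatives -/
def rp (k : ℕ) : ℕ := lk 0x33c0f14303fdf5c5f5d65534501c1 6 k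
/-- the representatives as subsets -/
def rv (k : ℕ) : E := ⟨rp k, lk_lt _ 6 _⟩
/-- structure constants -/
noncomputable def cn (A B u : ℕ) : ℕ := cnt (fun x => bt A (cl x) && bt B (cl (Nat.xor x u))) 64
/-- constant on a set of classes -/
noncomputable def cst (A B C u : ℕ) : Bool := allN (fun k => !bt C k || Nat.beq (cn A B (rp k)) (cn A B u)) 19
/-- level sets -/
noncomputable def lv (A B c : ℕ) : ℕ :=
  Nat.rec 0 (fun k r => cond (Nat.beq (cn A B (rp k)) c) (Nat.lor r (Nat.pow 2 k)) r) 19
/-- sets of classes which cannot be invariant -/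
noncomputable def bad (T M : ℕ) : Bool := (anyN (fun k => bt T k && !bt M k) 19 && anyN (fun k => bt T k && bt M k) 19) ||
  (anyN (fun k => bt M k && !Nat.beq k 13) 19 && allN (fun k => !bt M k || bt 0x33104 k) 19)
/-- all subsets of a mask -/
abbrev Sub (X : ℕ) (P : ℕ → Bool) : Prop := allN (fun i => !Nat.beq (Nat.land i (Nat.div X 512)) i ||
  allN (fun j => !Nat.beq (Nat.land j (Nat.mod X 512)) j || P (Nat.add (Nat.mul 512 i) j)) 512) 1024 = true
/-- certificates -/
def CE : ℕ := 0x85f000441e400441e200085e040255e000085d000341c400341c200085c040249c000045b400045b2000c5b000045a800045a440045a400045a240045a200045a0800c5a040045a0004c198203c198001019420105940010192201059200045902044188203418800101846010584400458420145840010182601058240045822014582004c180e03c180c044180a03418080045806004580200818000085700034164003416200085604024960000855030085502008550100c55000441443034144203414410045440044142303414220341421004542000854070085406008540500c54040255403024940202494010045400010134101053400101321010532004c130903c1308004530104c128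503c128404412810341280010124501052440045241014524001012250105224004522101452200441209034120800452050045201008120001011c001011a003c11820045180010114800451430105142010514100c5140010112800451230105122010512100c512003c1109004510800c5103000110001010c400450c001010a400450a003c108500450840045083034108203410810045080010104c004504800450470105046010504500c50440045043014504201450410045040010102c004502800450270105026010502500c5024004502301450220145021004502003c100e004500c004500b034100a0341009004500800c500700010040045003008100200810010001000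
/-- automorphisms of `E` commuting with `D` -/
def LT : ℕ := 0xffef7cefae78df6d74cf2c70beeb6caeaa689e69648e28607de75c6da6585d65544d24503ce34c2ca2481c61440c2040ffef7cefae78df6d74cf2c708218a39259a7a29aabb2dbaf41149351559761969b71d79f3ce34c2ca2481c61440c2040ff2c7ce35dbbd39eb7cfef70be286ca259ab929aa78eeb607d245c61559b5196974de7503c204c20518b1092870ce340ff2c7ce35dbbd39eb7cfef7082dba39eaa64ae6968b218af41d7935da6546d655871149f3c204c20518b1092870ce340fce37c2fae481f6d44cc2070bde76c6eaa585e69548d24607eeb5cada6689d65644e28503fef4ceca278dc61740f2c40fc207c235d8b139e87cce370bd246c62599b529a978de7607e285ca155ab9196a74eeb503f2c4ce051bbd092b70fef40fce37c2fae481f6d44cc20708114a3525997629a9bb1d7af4218939155a7a196ab72db9f3fef4ceca278dc61740f2c40fc207c235d8b139e87cce37081d7a35eaa546e6958b114af42db939da664ad656872189f3f2c4ce051bbd092b70fef40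

theorem Sub.of {X m : ℕ} {P : ℕ → Bool} (h : Sub X P) (l : m < 2 ^ 19) (s : ∀ k < 19, bt m k = true → bt X k = true) :
    P m = true := by
  have e : m &&& X = m := Nat.eq_of_testBit_eq fun i => by
    rw [Nat.testBit_and]
    by_cases k : i < 19
    · have := s i k
      rw [bt_eq, bt_eq] at this
      revert this; cases m.testBit i <;> simp
    · rw [Nat.testBit_lt_two_pow (l.trans_le (Nat.pow_le_pow_right two_pos (not_lt.1 k))), Bool.false_and]
  have a := allN_iff.1 h (m / 512) (by omega)
  rw [show Nat.land (m / 512) (Nat.div X 512) = m / 512 from (Nat.and_div_two_pow (n := 9)).symm.trans (congrArg (· / 512) e),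
    Nat.beq_refl, Bool.not_true, Bool.false_or] at a
  have b := allN_iff.1 a (m % 512) (by omega)
  rwa [show Nat.land (m % 512) (Nat.mod X 512) = m % 512 from (Nat.and_mod_two_pow (n := 9)).symm.trans (congrArg (· % 512) e),
    Nat.beq_refl, Bool.not_true, Bool.false_or, show Nat.add (Nat.mul 512 (m / 512)) (m % 512) = m from
      Nat.div_add_mod m 512] at b

theorem bt_lv {A B c k : ℕ} (h : k < 19) : bt (lv A B c) k = true ↔ cn A B (rp k) = c := by
  have : ∀ n, bt (Nat.rec 0 (fun k r => cond (Nat.beq (cn A B (rp k)) c) (Nat.lor r (Nat.pow 2 k)) r) n) k = true ↔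
      k < n ∧ cn A B (rp k) = c := fun n => by
    induction n with
    | zero => simp [bt_eq]
    | succ n ih =>
      dsimp only
      generalize (Nat.rec 0 _ n : ℕ) = r at ih
      rw [bt_eq] at ih ⊢
      cases e : Nat.beq (cn A B (rp n)) c
      · have := Nat.ne_of_beq_eq_false e
        rw [cond_false, ih]
        exact and_congr_left fun q => ⟨fun _ => by omega, fun r => (Nat.lt_succ_iff_lt_or_eq.1 r).resolve_right
          fun s => this (s ▸ q)⟩
      · have := Nat.eq_of_beq_eq_true e
        simp only [cond_true, Nat.lor_eq, Nat.pow_eq, Nat.testBit_or, Bool.or_eq_true, ih, Nat.testBit_two_pow,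
          decide_eq_true_eq]
        exact ⟨fun q => q.elim (fun q => ⟨by omega, q.2⟩) fun q => q ▸ ⟨by omega, this⟩, fun q =>
          (Nat.lt_succ_iff_lt_or_eq.1 q.1).imp (fun r => ⟨r, q.2⟩) Eq.symm⟩
  exact (this 19).trans (and_iff_right h)

theorem h1 : (∀ k : Fin 19, cl (rp k) = k) ∧ ∀ v : E, cl v.v < 19 ∧ ∃ d, ac d (rv (cl v.v)) = v := by decide +kernel
theorem h2 : Sub 0x1fff fun m => !bt m 12 || (!cst m m m 63 || (anyN (fun i => Nat.beq (Nat.mod (lk CE 28 i) 8192) m) 154 ||
    anyN (fun i => allN (fun v => bt m (cl (lk LT 6 (Nat.add (Nat.mul 64 i) v))) == bt 0x1900 (cl v)) 64 ||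
      allN (fun v => bt m (cl (lk LT 6 (Nat.add (Nat.mul 64 i) v))) == bt 0x1de0 (cl v)) 64) 8)) := by decide +kernel
/-- checking a certificate -/
noncomputable def chk (m a b c : ℕ) : Bool := bad m (lv m (lv m m a) b) || bad m (lv (lv m m a) (lv m (lv m m a) b) c)
theorem h3 : allN (fun i => chk (Nat.mod (lk CE 28 i) 8192) (lk (Nat.div (lk CE 28 i) 8192) 5 0)
    (lk (Nat.div (lk CE 28 i) 8192) 5 1) (lk (Nat.div (lk CE 28 i) 8192) 5 2)) 154 = true := by decide +kernel
theorem h4 : (lv 0x1900 0x1900 2 = 0x2c00d ∧ lv 0x1900 0x1900 0 = 0x51ff2 ∧ cn 0x1900 0x1900 48 = 2 ∧ cn 0x1900 0x1900 15 = 0) ∧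
    lv 0x1de0 0x1de0 18 = 0x24005 ∧ lv 0x1de0 0x1de0 12 = 0x5821a ∧ cn 0x1de0 0x1de0 48 = 18 ∧ cn 0x1de0 0x1de0 15 = 12 := by
  decide +kernel
theorem h5 : Sub 0x2c00d fun m => !bt m 17 || (!cst 0x1900 m 0x1900 63 || (!cst m m m 48 || Nat.beq m 0x2c00d)) := by
  decide +kernel
theorem h6 : Sub 0x24005 fun m => !bt m 17 || (!cst 0x1de0 m 0x1de0 63 || (!cst m m m 48 ||
    (Nat.beq m 0x24005 || bad 0 m))) := by decide +kernel
theorem h7 : Sub 0x506f2 fun m => !bt m 16 || (!cst 0x2c00d m 0x2c00d 48 ||
    (Nat.beq m 0x50020 || (Nat.beq m 0x50040 || Nat.beq m 0x506f2))) := by decide +kernel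
theorem h8 : Sub 0x5821a fun m => !bt m 16 || (!cst 0x24005 m 0x24005 48 || Nat.beq m 0x5821a) := by decide +kernel

/-- automorphisms of the model -/
def tw (l : E → E) (c : D → E) (h : (∀ u v, l (u * v) = l u * l v) ∧ (∀ d v, l (ac d v) = ac d (l v)) ∧
    ∀ a b, c (a * b) = c a * ac a (c b)) : W →* W := MonoidHom.mk' (fun w => ⟨l w.e * c w.d, w.d⟩) fun a b => by
  simp only [W.mul_def, h.1, h.2.1, h.2.2, ac_mul, mul_mul_mul_comm]
/-- the linear twists -/
def lt (i : D) (v : E) : E := ⟨lk LT 6 (Nat.add (Nat.mul 64 i.v) v.v), lk_lt _ 6 _⟩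
/-- the cocycles -/
def co (i d : D) : E := ⟨lk 0x3cf3cf000000c30000c30000420c00420c00810c00810c00000000000000 6
  (Nat.add (Nat.mul 8 i.v) d.v), lk_lt _ 6 _⟩
/-- twisting by a linear map -/
def twl (i : D) : W →* W := tw (lt i) (fun _ => 1) (by revert i; decide +kernel)
/-- twisting by a cocycle -/
def twc (i : D) : W →* W := tw id (co i) ⟨fun _ _ => rfl, fun _ _ => rfl, by revert i; decide +kernel⟩
theorem twl_bij (i : D) : Function.Bijective (twl i) := Finite.injective_iff_bijective.1
  ((injective_iff_map_eq_one _).2 (by revert i; decide +kernel))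
theorem twc_bij (i : D) : Function.Bijective (twc i) := Finite.injective_iff_bijective.1
  ((injective_iff_map_eq_one _).2 (by revert i; decide +kernel))
theorem twl_ie : ∀ i v, twl i (ie v) = ie (lt i v) := by decide +kernel
theorem twc_ie : ∀ i v, twc i (ie v) = ie v := by decide +kernel
theorem lt_t : ∀ i, lt i (t 0) = t 0 := by decide +kernel

end CF.O7.Fs
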