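/-
Sylow 2-subgroups of type `A₁₂`: recognition of `L₄(q)` and `U₄(q)`.
-/
import Cfsg.Agent.Ms.Z
set_option autoImplicit false
set_option linter.unusedSectionVars false
set_option maxHeartbeats 400000
set_option maxRecDepth 100000
set_option synthInstance.maxSize 2000

namespace CF.O7.Qa
open Subgroup Cfsg CF.BG CF.Sig CF.GW CF.Ab2 CF.Wg CF.Ms CF.Ms.Sb
open CF.W2 (SM Cj Dz uniq eq_iff tr cj_sq cj_ne mem_c1' map_sq map_ne norm_map_of)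
open CF.LyS (cj_com)
open CF.Transfer (pRes)
open CF.Ms.Qm (al be zz)

universe u
variable {G : Type u} [Group G] [Finite G] {φ : Y →* G} {g y : G} {t d : Y}

theorem out_lu (d : 128 ∣ Nat.card G) (s : ∀ t : G, orderOf t = 2 → Sol (𝐂₁ t)) (h : XT.Out G) : LU G := by
  have J : ∀ {X : Type} [Group X] (_ : G ≃* X) (t : X), orderOf t = 2 → (Cod.El J23.TH ≃* 𝐂₁ t) → False := by
    intro X _ e t o f
    obtain ⟨Q, n, -, -, -, -, ⟨q⟩, -⟩ := Comp.HCen.shape f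
    have k := (s (e.symm t) (by rwa [MulEquiv.orderOf_eq])).map e.toMonoidHom
    have l : 𝐂₁ t ≤ (𝐂₁ (e.symm t)).map e.toMonoidHom := fun x hx => ⟨e.symm x, mem_cent1.2 (by
      rw [← map_mul, mem_cent1.1 hx, map_mul]), by simp⟩
    haveI := k.mono l
    exact Classical.not_isSolvable_A5 (Group.isSolvable_of_surjective (f := q.toMonoidHom) q.surjective)
  rcases h with ⟨F, _, _, c, ⟨⟨e⟩⟩ | e⟩ | ⟨F, _, _, c, ⟨e⟩⟩ | ⟨F, _, _, c, e | ⟨⟨e⟩⟩⟩ | ⟨⟨e⟩⟩ | ⟨⟨e⟩⟩ | ⟨⟨e⟩⟩ | ⟨⟨e⟩⟩ |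
    ⟨F, _, _, w, c, hw, ⟨e⟩⟩
  · have k := CF.Comp.card_PSU_mul (K := F) (q := 3) (d := 3) c (by decide)
    rw [Nat.card_congr e.toEquiv] at d
    rw [show Nat.gcd 3 (3 + 1) = 1 from rfl, show (3 : ℕ) ^ (3 * (3 - 1) / 2) * _ = 24192 by decide +kernel] at k
    omega
  · exact .inr ⟨F, _, _, 3, c, by decide, e⟩
  · have k := CF.Comp.card_PSU_mul (K := F) (q := 2) (d := 4) c (by decide)
    rw [Nat.card_congr e.toEquiv] at d
    rw [show Nat.gcd 4 (2 + 1) = 1 from rfl, show (2 : ℕ) ^ (4 * (4 - 1) / 2) * _ = 77760 by decide +kernel] at k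
    omega
  · exact .inl ⟨F, _, _, by rw [c]; decide, e⟩
  · rw [Nat.card_congr e.toEquiv, Chev.cardG2 F (Nat.card_eq_fintype_card.trans c)] at d
    exact absurd d (by decide)
  · rw [Nat.card_congr e.toEquiv, nat_card_alternatingGroup, Nat.card_eq_fintype_card, Fintype.card_fin] at d
    exact absurd d (by decide)
  · rw [Nat.card_congr e.toEquiv, nat_card_alternatingGroup, Nat.card_eq_fintype_card, Fintype.card_fin] at d
    exact absurd d (by decide)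
  · rw [Nat.card_congr e.toEquiv, CF.Comp.Mat.card_M12] at d
    exact absurd d (by decide)
  · exact let ⟨o, ⟨f⟩⟩ := Comp.J2.cent; (J e _ o f).elim
  · exact let ⟨o, ⟨f⟩⟩ := Comp.J3.cent (Comp.J3.ok c hw); (J e _ o f).elim

theorem main_lu [IsSimpleGroup G] (h : F0 φ) (res : ∀ t, φ t ∈ pRes 2 (𝐂₁ (φ Y.j)) ↔ t ∈ Y.k.range)
    (s : Sol (𝐂₁ (φ Y.j))) (hV : ∀ y ∈ pRes 2 (𝐂₁ (φ Y.j)), ∀ a, v1 a → ∃ d, v1 d ∧ Cj φ y a d)
    (hE : ∀ i, ¬ 𝐂₁ (φ Y.j) ≤ 𝐍 ((Y.E i).map φ)) : LU G := by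
  have o := oc_bot h s
  have l : ∀ a, φ a ∈ 𝐂₁ (φ Y.j) := fun a => mem_c1' (Y.cj a)
  have sM := h.syl.of_le (fun _ ⟨a, e⟩ => e ▸ l a) le_top
  have nL := GW.pRes_normal (𝐂₁ (φ Y.j))
  have nQ : 𝐂₁ (φ Y.j) ≤ 𝐍 (Y.k.range.map φ) := le_of h.toSM (fun y hy => norm_map_of fun t m => by
      obtain ⟨u, h1, h2⟩ := (by decide +kernel : ∀ t ∈ Y.k.range, ∃ u, v1 u ∧ v1 (Y.n * (u⁻¹ * t) * Y.n⁻¹)) t m
      obtain ⟨d1, k1, e1⟩ := hV y hy u h1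
      obtain ⟨d2, k2, e2⟩ := hV _ (nL.conj_mem (l Y.n) hy) _ h2
      have e3 := ((Cj.of Y.n _).comp e2).comp (Cj.of Y.n⁻¹ d2)
      rw [show φ Y.n⁻¹ * (φ Y.n * y * (φ Y.n)⁻¹ * φ Y.n) = y by simp] at e3
      exact ⟨_, (by decide +kernel : ∀ a, v1 a → ∀ b, v1 b → a * (Y.n⁻¹ * b * Y.n⁻¹⁻¹) ∈ Y.k.range) d1 k1 d2 k2,
        (e1.mul e3).cast (mul_inv_cancel_left _ _) rfl⟩)
    fun a => norm_map_of fun t m => ⟨_, (by decide +kernel : ∀ a, ∀ t ∈ Y.k.range, a * t * a⁻¹ ∈ Y.k.range) a t m,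
      .of a t⟩
  have QR : Y.k.range.map φ ≤ 𝐎 {2} (𝐂₁ (φ Y.j)) := le_O ⟨fun _ ⟨a, _, e⟩ => e ▸ l a, nQ⟩ (h.pi _)
  have RS := sM.le_of_normal (O_normal {2} _) (O_pi _ _)
  have act : ∀ y ∈ pRes 2 (𝐂₁ (φ Y.j)), ∀ t, φ t ∈ 𝐎 {2} (𝐂₁ (φ Y.j)) → ∃ d, t⁻¹ * d ∈ Y.k.range ∧ Cj φ y t d :=
    fun y hy t m => by
    obtain ⟨d, e⟩ := RS ((O_normal _ _).conj_mem (nL.le hy) m)
    refine ⟨d, (res _).1 ?_, e.symm⟩
    rw [map_mul, map_inv, e]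
    exact Transfer.inv_mul_conj_mem_pRes (l t) hy
  by_cases hu : ∃ i, φ (ui i) ∈ 𝐎 {2} (𝐂₁ (φ Y.j))
  · obtain ⟨i, m⟩ := hu
    refine (hE i ?_).elim
    refine le_of h.toSM (fun y hy => ?_) fun a => norm_map_of fun t m => ⟨_, Y.nor_E i a t m, .of a t⟩
    have k : ∀ t ∈ Y.E i, t ∉ Y.k.range → ∃ d ∈ Y.E i, Cj φ y t d := fun t m1 m2 => by
      obtain ⟨d, e1, e2⟩ := act y hy t ((mul_mem_cancel_left (inv_mem m)).1 (QR ⟨_, (by decide +kernel :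
        ∀ i, ∀ t ∈ Y.E i, t ∉ Y.k.range → (ui i)⁻¹ * t ∈ Y.k.range) i t m1 m2, by simp⟩))
      exact ⟨d, (by decide +kernel : ∀ i, ∀ t ∈ Y.E i, t ∉ Y.k.range → ∀ d, d * d = 1 → t⁻¹ * d ∈ Y.k.range → d ∈ Y.E i)
        i t m1 m2 d ((cj_sq h.inj e2).1 (Y.sq_E i t m1)) e1, e2⟩
    refine norm_map_of fun t m => ?_
    by_cases q : t ∈ Y.k.range
    swap
    · exact k t m q
    obtain ⟨k1, k2, k3, k4, k5⟩ := (by decide +kernel : ∀ i, ∀ t ∈ Y.E i, t ∈ Y.k.range → t * ui i ∈ Y.E i ∧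
      t * ui i ∉ Y.k.range ∧ ui i ∈ Y.E i ∧ ui i ∉ Y.k.range ∧ t * ui i * ui i = t) i t m q
    obtain ⟨d1, m1, e1⟩ := k _ k1 k2
    obtain ⟨d2, m2, e2⟩ := k _ k3 k4
    exact ⟨_, mul_mem m1 m2, (e1.mul e2).cast k5 rfl⟩
  have ne : φ Y.e ∉ 𝐎 {2} (𝐂₁ (φ Y.j)) := fun m => by
    have : pRes 2 (𝐂₁ (φ Y.j)) ≤ 𝐂₁ (φ aa) ⊓ 𝐂₁ (φ bb) := Transfer.pRes_le_iff.2 fun y hy o => by
      have hy' := Transfer.mem_pRes_of_coprime hy o
      have e0 : Cj φ y Y.j Y.j := .of_comm (mem_cent1.1 hy)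
      obtain ⟨a, a1, e1⟩ := hV y hy' aa (by decide +kernel)
      obtain ⟨b, b1, e2⟩ := hV y hy' bb (by decide +kernel)
      obtain ⟨c, c1, e3⟩ := act y hy' _ m
      have e4 : Cj φ y aa aa := .of_comm (mem_cent1.1 (odd_mem o (mem_cent1.2 (Cj.comm (by
        rcases (by decide +kernel : ∀ a, v1 a → a * a ≠ 1 → ∀ c, Y.e⁻¹ * c ∈ Y.k.range → a * c = c * a →
          a = aa ∨ a = aa * Y.j) a a1 (mt (cj_sq h.inj e1).2 (by decide +kernel)) c c1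
          ((cj_com h.toSM e1 e3).1 (by decide +kernel)) with rfl | rfl
        exacts [e1.comp e1, (e1.comp (e1.mul e0)).cast rfl (by decide +kernel)])))))
      refine ⟨mem_cent1.2 e4.comm, odd_mem o (odd_mem (H := 𝐂₁ (φ bb)) (by
        rw [← sq]; exact Nat.Coprime.coprime_dvd_left (orderOf_pow_dvd 2) o) (mem_cent1.2 (Cj.comm ?_)))⟩
      have key : ∀ {u}, Cj φ y u u → u * u * (u * u) = 1 → Cj φ y bb (u * bb) → Cj φ (y * y * (y * y)) bb bb :=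
        fun {u} f q e => by
        have e' := e.comp (f.mul e)
        exact (e'.comp (((f.comp f).mul (f.comp f)).mul e' |>.cast (mul_assoc _ _ _) rfl)).cast rfl (by
          rw [← mul_assoc, ← mul_assoc, mul_assoc (u * u), q, one_mul])
      rcases (by decide +kernel : ∀ b, v1 b → aa * b ≠ b * aa → b = 1 * bb ∨ b = Y.j * bb ∨ b = aa * bb ∨
        b = aa * Y.j * bb) b b1 (mt (cj_com h.toSM e4 e2).2 (by decide +kernel)) with rfl | rfl | rfl | rfl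
      exacts [key (.one y) (by simp) e2, key e0 (by decide +kernel) e2, key e4 (by decide +kernel) e2,
        key (e4.mul e0) (by decide +kernel) e2]
    have := mem_cent1.1 (this ((res aa).2 (by decide +kernel))).2
    rw [← map_mul, ← map_mul] at this
    exact absurd (h.inj this) (by decide +kernel)
  have RQ : 𝐎 {2} (𝐂₁ (φ Y.j)) ≤ Y.k.range.map φ := fun x hx => by
    obtain ⟨t, rfl⟩ := RS hx
    have k : ∀ {u}, t⁻¹ * u ∈ Y.k.range → φ u ∈ 𝐎 {2} (𝐂₁ (φ Y.j)) := fun m =>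
      (mul_mem_cancel_left (inv_mem hx)).1 (QR ⟨_, m, by simp⟩)
    rcases (by decide +kernel : ∀ t, t ∈ Y.k.range ∨ t⁻¹ * ui false ∈ Y.k.range ∨ t⁻¹ * ui true ∈ Y.k.range ∨
      t⁻¹ * Y.e ∈ Y.k.range) t with m | m | m | m
    exacts [mem_map_of_mem φ m, absurd ⟨_, k m⟩ hu, absurd ⟨_, k m⟩ hu, absurd (k m) ne]
  have jQ : φ Y.j ∈ Y.k.range.map φ := mem_map_of_mem φ (by decide +kernel)
  have cQ : 𝐂 (Y.k.range.map φ) ≤ Y.k.range.map φ := fun x hx =>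
    RQ (s.cent_O_le o ⟨mem_cent1.2 (hx _ jQ).symm, centralizer_le RQ hx⟩)
  have i : Iv (φ Y.j) := .mk' (map_ne h.inj (by decide +kernel)) (map_sq (by decide +kernel))
  have cen : ∀ x ∈ Y.k.range.map φ, x ∈ 𝐂 (Y.k.range.map φ) → x = 1 ∨ x = φ Y.j := by
    rintro _ ⟨a, m, rfl⟩ c
    refine ((by decide +kernel : ∀ a ∈ Y.k.range, (∀ b ∈ Y.k.range, b * a = a * b) → a = 1 ∨ a = Y.j) a m fun b m' =>
      h.inj (by rw [map_mul, map_mul]; exact c _ (mem_map_of_mem φ m'))).imp (fun e => ?_) fun e => ?_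
    exacts [by rw [e, map_one], by rw [e]]
  refine out_lu (by rw [← Y.card, Nat.card_congr (MonoidHom.ofInjective h.inj).toEquiv]; exact card_subgroup_dvd_card _)
    (fun t o => sol_all h s o) (XT.out_of_simple (Q := Y.k.range.map φ) (z := φ Y.j)
    ⟨⟨⟨jQ, i, fun _ ⟨a, _, e⟩ => e ▸ (Cj.of' (Y.cj a)).comm, fun _ ⟨a, m, e⟩ => e ▸ ((by decide +kernel :
      ∀ a ∈ Y.k.range, a * a = 1 ∨ a * a = Y.j) a m).imp map_sq fun k => by rw [← map_mul, k],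
      fun x m c _ => cen x m c⟩, cen, fun l => ?_⟩, cQ, nQ⟩ (by rw [card_map h.inj, Y.card_eq]; decide +kernel)
    (by rw [show pCoreOf 2 _ = 𝐎 {2} _ from map_pCore p2 _]; exact RQ))
  rcases i.mem_zpowers.1 (l (mem_map_of_mem φ (show Y.x ∈ Y.k.range by decide +kernel))) with e | e
  exacts [map_ne h.inj (by decide +kernel) e, h.inj.ne (by decide +kernel) e]

theorem lu_of [IsSimpleGroup G] (h : SM φ) (n : ¬ No2 (𝐂₁ (φ Y.j)))
    (hE : ∀ i, ¬ 𝐂₁ (φ Y.j) ≤ 𝐍 ((Y.E i).map φ)) : LU G := by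
  have f := f0_of h
  have res := f.dich.resolve_left n
  by_cases s : Sol (𝐂₁ (φ Y.j))
  · rcases (xb h res (oc_bot f s)).dich with ⟨-, -, k⟩ | ⟨F, _, _, _, _, _, _, _, k⟩
    · exact main_lu f res s (hV_of k) hE
    · exact absurd (sol_top.2 s) k.not_sol
  exact luY f res s

end CF.O7.Qa
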