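/-
Sylow 2-subgroups of type `A₁₂`: the comparison of `T/⟨t 0⟩` with the Sylow 2-subgroup of `L₄(5)`.
-/
import Cfsg.Agent.O7.B
import Cfsg.Agent.Ms.Y
set_option autoImplicit false
set_option maxRecDepth 100000
set_option synthInstance.maxSize 2000

namespace CF.O7.Qa
open Subgroup
open CF.Ms (Y)
open CF.Ya (lk bt lk_lt)

/-- a table -/
def SE : ℕ := 0x3d40d844a74631701b4897855cf6c319e29250c60015d2517494453db0d778a48631801415225e60f50319129d6cc5c03d40d844a74631701b4897855cf6c319e29250c60015d2517494453db0d778a48631801415225e60f50319129d6cc5c0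
/-- a table -/
def SD : ℕ := 0x7dfcb27dfcb27dfcb27dfcb27dfcb27dfcb27dfcb27dfcb230ca2830ca2830ca2830ca2830ca2830ca2830ca2830ca28
/-- a table -/
def PR : ℕ := 0xc80006c0172a00017ab00cc0006e011a700fc00076f80007401126000132200e80007cec0007e013a300dc00066015af000152e00d800064a200059018f5800187480a60005b01ef9809200041960004301e788001c7c80860004b820004901cfd80b60005301a708001af180b2000512200019008d5800085480260001b00ed9801200001160000300e588000c5c80060000b020000900cdd80360001300a508000ad1803200011480002c0070a000078b004c0002e00187007c00036780003400106000030200680003c6c0003e00383005c000260058f000050e005800024ea0007d013e3800136280ee0007f0176a80ce0006fca0006d017eb80015ef80da00065de000670156e80fe000770116680011e780fa00075800004801c3c0001cbd00840004a0183400a000058a40005a018b50001ab100b400052b00005001a3000940004201eb90001e380090000406a0003d003c38000342806e0003f0074a804e0002f4a0002d007cb80005cf805a000255e000270054e807e000370014680001c7807a00035000000800c1c0000c9d00040000a00814002000018240001a008950000a91003400012300001000a1000140000200e990000e18001000000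
/-- the code -/
def yc (y : Y) : ℕ := Nat.add (Nat.add (Nat.add (cond y.a0 1 0) (cond y.a1 2 0)) (Nat.add (cond y.b0 4 0) (cond y.b1 8 0)))
  (Nat.add (Nat.add (cond y.p 16 0) (cond y.q 32 0)) (cond y.s 64 0))
/-- the section -/
def ys (y : Y) : W := ⟨⟨lk SE 6 (yc y), lk_lt _ 6 _⟩, ⟨lk SD 3 (yc y), lk_lt _ 3 _⟩⟩
/-- decoding -/
def yq (n : ℕ) : Y := Y.mk' (bt n 0) (bt n 1) (bt n 2) (bt n 3) (bt n 4) (bt n 5) (bt n 6)
/-- the projection -/
def yp (w : W) : Y := yq (lk PR 7 (Nat.add (Nat.mul 64 w.d.v) w.e.v))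
theorem ys_T : ∀ y, χ0 (ys y) = 1 := by decide +kernel
theorem yp_ys : ∀ y, yp (ys y) = y := by decide +kernel
theorem ys_mul : ∀ x y, ys (x * y) = ys x * ys y ∨ ys (x * y) = ie (t 0) * (ys x * ys y) := by decide +kernel
theorem ys_yp : ∀ w, χ0 w = 1 → ys (yp w) = w ∨ ys (yp w) = ie (t 0) * w := by decide +kernel
theorem ys_one : ∀ y, ys y = 1 ∨ ys y = ie (t 0) → y = 1 := by decide +kernel
theorem yp_a : yp (ie (𝐞 48)) = Y.j := by decide +kernel
theorem ys_j : ys Y.j = ie (𝐞 48) ∨ ys Y.j = ie (𝐞 15) := by decide +kernel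
theorem yp_E : ∀ v, bit v 0 = false → yp (ie v) ∈ Y.E false := by decide +kernel
theorem ys_E : ∀ y ∈ Y.E false, ∃ v, bit v 0 = false ∧ ys y = ie v := by decide +kernel
theorem yp_U : yp (ie (𝐞 3)) ∈ Y.E true ∧ yp (ie (𝐞 6)) ∉ Y.E true := by decide +kernel
theorem few : ∀ u, (⟨u, ⟨2, by decide⟩⟩ * ⟨u, ⟨2, by decide⟩⟩ : W) = 1 → (Finset.univ.filter fun x : W =>
    x * x = 1 ∧ χ0 x = 1 ∧ x * ⟨u, ⟨2, by decide⟩⟩ = ⟨u, ⟨2, by decide⟩⟩ * x).card < 32 := by decide +kernel

end CF.O7.Qa
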